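import Groth.Prelude.Def_CInt
import Mathlib.AlgebraicGeometry.Morphisms.Separated
import Mathlib.AlgebraicGeometry.Morphisms.Immersion
import Mathlib.AlgebraicGeometry.Morphisms.ClosedImmersion
import Mathlib.AlgebraicGeometry.PullbackCarrier

/-! Morphisms agreeing on a schematically dense open. -/

universe u

open CategoryTheory Limits AlgebraicGeometry

namespace Groth.Agent.SchDense

/-- A closed immersion through which a schematically dense open factors is an isomorphism. -/
lemma isIso_of_schDense {E X : Scheme.{u}} (e : E ⟶ X) [IsClosedImmersion e] (U : X.Opens)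
    (hU : CInt.IsSchematicallyDense U) (h : U.toScheme ⟶ E) (hh : h ≫ e = U.ι) : IsIso e := by
  rw [IsClosedImmersion.isIso_iff_ker_eq_bot, eq_bot_iff]
  intro V a ha
  rw [Scheme.Hom.ker_apply, RingHom.mem_ker] at ha
  have h1 : (h ≫ e).app V.1 a = 0 := by
    rw [Scheme.Hom.comp_app]
    exact (congrArg (h.app _).hom ha).trans (map_zero _)
  rw [hh, Scheme.Opens.ι_app] at h1
  have hle : V.1 ⊓ U ≤ U.ι ''ᵁ U.ι ⁻¹ᵁ V.1 := fun x hx => ⟨⟨x, hx.2⟩, hx.1, rfl⟩
  have h2 : X.presheaf.map (homOfLE (inf_le_left : V.1 ⊓ U ≤ V.1)).op a = 0 := by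
    have := congrArg (X.presheaf.map (homOfLE hle).op) h1
    erw [← CommRingCat.comp_apply, ← Functor.map_comp] at this
    exact this.trans (map_zero _)
  exact hU V.1 (h2.trans (map_zero _).symm)

variable {S : Scheme.{u}} {X Y : Over S}

set_option backward.isDefEq.respectTransparency false in
/-- The equalizer of two morphisms over `S` is an immersion. -/
lemma isImmersion_equalizer (f g : X ⟶ Y) : IsImmersion (equalizer.ι f g).left := by
  refine MorphismProperty.of_isPullback
    ((Limits.isPullback_equalizer_prod f g).map (Over.forget _)).flip ?_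
  have : MorphismProperty.RespectsIso @IsImmersion :=
    MorphismProperty.IsStableUnderBaseChange.respectsIso
  rw [← MorphismProperty.cancel_right_of_respectsIso @IsImmersion _
    (Over.prodLeftIsoPullback Y Y).hom]
  convert! (inferInstance : IsImmersion (pullback.diagonal Y.hom))
  ext1 <;> simp [← Over.comp_left]

lemma exists_lift (U : X.left.Opens) (f g : X ⟶ Y) (h : U.ι ≫ f.left = U.ι ≫ g.left) :
    ∃ l : U.toScheme ⟶ (equalizer f g).left, l ≫ (equalizer.ι f g).left = U.ι :=
  ⟨(equalizer.lift (Over.homMk U.ι : Over.mk (U.ι ≫ X.hom) ⟶ X) (by ext1; exact h)).left, by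
    rw [← Over.comp_left, equalizer.lift_ι]; rfl⟩

lemma eq_of_isSeparated [IsSeparated Y.hom] (U : X.left.Opens) (hU : CInt.IsSchematicallyDense U)
    (f g : X ⟶ Y) (h : U.ι ≫ f.left = U.ι ≫ g.left) : f = g := by
  obtain ⟨l, hl⟩ := exists_lift U f g h
  have := isIso_of_schDense (equalizer.ι f g).left U hU l hl
  ext1
  rw [← cancel_epi (equalizer.ι f g).left]
  exact congr($(equalizer.condition f g).left)

/-- Morphisms agreeing on a relatively schematically dense open agree if the fibres of the target are separated. -/
lemma eq_of_fibres_separated (U : X.left.Opens)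
    (hU : ∀ (S' : Scheme.{u}) (g : S' ⟶ S), CInt.IsSchematicallyDense ((pullback.fst X.hom g) ⁻¹ᵁ U))
    (hY : ∀ s : S, IsSeparated (pullback.snd Y.hom (S.fromSpecResidueField s)))
    (f g : X ⟶ Y) (h : U.ι ≫ f.left = U.ι ≫ g.left) : f = g := by
  obtain ⟨l, hl⟩ := exists_lift U f g h
  have := isImmersion_equalizer f g
  set e := (equalizer.ι f g).left
  have hsurj : Function.Surjective e.base := by
    intro x
    let p := S.fromSpecResidueField (X.hom x)
    obtain ⟨z, hz⟩ : x ∈ Set.range (pullback.fst X.hom p).base := by
      rw [Scheme.Pullback.range_fst]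
      show X.hom x ∈ Set.range p.base
      rw [Scheme.range_fromSpecResidueField]; rfl
    let F := (Over.pullback p).map f
    let G := (Over.pullback p).map g
    have : IsSeparated ((Over.pullback p).obj Y).hom := hY _
    have hFG : F = G := by
      refine eq_of_isSeparated ((pullback.fst X.hom p) ⁻¹ᵁ U) (hU _ p) F G ?_
      apply pullback.hom_ext
      · simp only [F, G, Over.pullback_map_left, Category.assoc]
        erw [pullback.lift_fst, pullback.lift_fst]
        have hr := morphismRestrict_ι (pullback.fst X.hom p) U
        rw [← reassoc_of% hr, ← reassoc_of% hr, h]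
      · simp only [Category.assoc]
        exact congrArg _ ((Over.w F).trans (Over.w G).symm)
    have hfst : pullback.fst X.hom p ≫ f.left = pullback.fst X.hom p ≫ g.left := by
      have e1 : F.left ≫ pullback.fst Y.hom p = pullback.fst X.hom p ≫ f.left := pullback.lift_fst _ _ _
      have e2 : G.left ≫ pullback.fst Y.hom p = pullback.fst X.hom p ≫ g.left := pullback.lift_fst _ _ _
      rw [← e1, ← e2, hFG]
    let q : Over.mk (pullback.fst X.hom p ≫ X.hom) ⟶ X := Over.homMk (pullback.fst X.hom p)
    have hq : q ≫ f = q ≫ g := by ext1; exact hfst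
    refine ⟨(equalizer.lift q hq).left z, ?_⟩
    show ((equalizer.lift q hq).left ≫ (equalizer.ι f g).left).base z = x
    rw [← Over.comp_left, equalizer.lift_ι]
    exact hz
  have : IsClosedImmersion e := .of_isPreimmersion e (by rw [hsurj.range_eq]; exact isClosed_univ)
  have hU1 : CInt.IsSchematicallyDense U := by
    have := hU S (𝟙 S)
    intro V a b hab
    set p := pullback.fst X.hom (𝟙 S)
    have key : Function.Injective (p.app V).hom := by
      have : IsIso p := inferInstance
      exact (ConcreteCategory.bijective_of_isIso (p.app V)).1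
    apply key
    apply this (p ⁻¹ᵁ V)
    have e := Scheme.Hom.naturality p (homOfLE (inf_le_left : V ⊓ U ≤ V)).op
    have := congrArg (p.app (V ⊓ U)).hom hab
    simp only [← CategoryTheory.comp_apply] at this ⊢
    rw [e] at this
    exact this
  have := isIso_of_schDense e U hU1 l hl
  ext1
  rw [← cancel_epi e]
  exact congr($(equalizer.condition f g).left)

end Groth.Agent.SchDense
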