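import Groth.Prelude.Def_CInt
import Mathlib.AlgebraicGeometry.Properties
import Mathlib.Topology.Sober

/-! Schematically dense versus dense. -/

universe u

open CategoryTheory AlgebraicGeometry TopologicalSpace

namespace Groth.Agent.SchDense

variable {X : Scheme.{u}}

theorem dense_of_schDense {U : X.Opens} (hU : CInt.IsSchematicallyDense U) : Dense (U : Set X) := by
  rw [dense_iff_inter_open]
  rintro W hW ⟨x, hx⟩
  by_contra hne
  obtain ⟨V, hV, hxV, hVW⟩ := exists_isAffineOpen_mem_and_subset (U := (⟨W, hW⟩ : X.Opens)) hx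
  have hbot : V ⊓ U = ⊥ := by
    ext y
    exact ⟨fun hy => hne ⟨y, hVW hy.1, hy.2⟩, False.elim⟩
  haveI : Subsingleton Γ(X, V ⊓ U) := by rw [hbot]; infer_instance
  haveI : Subsingleton Γ(X, V) := (hU V).subsingleton
  haveI : Nonempty V := ⟨⟨x, hxV⟩⟩
  exact not_subsingleton Γ(X, V) inferInstance

theorem schDense_of_dense [IsReduced X] {U : X.Opens} (hU : Dense (U : Set X)) :
    CInt.IsSchematicallyDense U := by
  intro V
  rw [injective_iff_map_eq_zero]
  intro t ht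
  rw [← basicOpen_eq_bot_iff, eq_bot_iff]
  intro x hx
  obtain ⟨y, hyU, hyV⟩ := hU.exists_mem_open (X.basicOpen t).2 ⟨x, hx⟩
  have h : y ∈ X.basicOpen (X.presheaf.map (homOfLE (inf_le_left : V ⊓ U ≤ V)).op t) := by
    rw [Scheme.basicOpen_res]
    exact ⟨⟨X.basicOpen_le t hyV, hyU⟩, hyV⟩
  rw [ht, Scheme.basicOpen_zero] at h
  exact h.elim

theorem genericPoint_mem_of_dense {α : Type*} [TopologicalSpace α] {U W : Set α} (hU : Dense U)
    (hUo : IsOpen U) (hWo : IsOpen W)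
    (hfin : {Z ∈ irreducibleComponents α | (Z ∩ W).Nonempty}.Finite) {Z : Set α}
    (hZ : Z ∈ irreducibleComponents α) {η : α} (hη : IsGenericPoint η Z) (hηW : η ∈ W) : η ∈ U := by
  let T := {Y ∈ irreducibleComponents α | (Y ∩ W).Nonempty} \ {Z}
  have hT : IsClosed (⋃ Y ∈ T, Y) := (hfin.subset Set.diff_subset).isClosed_biUnion fun Y hY =>
    isClosed_of_mem_irreducibleComponents Y hY.1.1
  have hηT : η ∈ W \ ⋃ Y ∈ T, Y := by
    refine ⟨hηW, ?_⟩
    simp only [Set.mem_iUnion, not_exists]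
    intro Y hY hηY
    have hZY : Z ⊆ Y := hη ▸ (isClosed_of_mem_irreducibleComponents Y hY.1.1).closure_subset_iff.2
      (Set.singleton_subset_iff.2 hηY)
    exact hY.2 (le_antisymm (hZ.2 hY.1.1.1 hZY) hZY)
  obtain ⟨x, hxU, hx⟩ := hU.exists_mem_open (hWo.sdiff hT) ⟨η, hηT⟩
  have hxZ : x ∈ Z := by
    obtain ⟨Y, hY, hxY⟩ : ∃ Y ∈ irreducibleComponents α, x ∈ Y :=
      ⟨_, irreducibleComponent_mem_irreducibleComponents x, mem_irreducibleComponent⟩
    by_contra hxZ
    refine hx.2 (Set.mem_biUnion ⟨⟨hY, x, hxY, hx.1⟩, ?_⟩ hxY)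
    rintro rfl
    exact hxZ hxY
  exact (hη.specializes hxZ).mem_open hUo hxU

end Groth.Agent.SchDense
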