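import Groth.Agent.SchDense.Dense
import Mathlib.RingTheory.Ideal.AssociatedPrime.Finiteness
import Mathlib.RingTheory.Ideal.MinimalPrime.Localization

/-! Schematically dense opens of affine schemes. -/

universe u

open CategoryTheory AlgebraicGeometry TopologicalSpace Topology

namespace Groth.Agent.SchDense

variable {A : Type u} [CommRing A]

/-- A finite set of annihilator primes covering the zero divisors. -/
def HasGoodPrimes (A : Type u) [CommRing A] : Prop :=
  ∃ P : Set (Ideal A), P.Finite ∧ (∀ p ∈ P, p.IsPrime ∧ ∃ a : A, ∀ x, x ∈ p ↔ x * a = 0) ∧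
    ∀ z : A, z ∉ nonZeroDivisors A → ∃ p ∈ P, z ∈ p

theorem hasGoodPrimes_of_noetherian [IsNoetherianRing A] : HasGoodPrimes A := by
  refine ⟨associatedPrimes A A, associatedPrimes.finite A A, fun p hp => ?_, fun z hz => ?_⟩
  · obtain ⟨hpp, a, ha⟩ := isAssociatedPrime_iff.1 hp
    exact ⟨hpp, a, fun x => by simp [ha, Submodule.mem_colon_singleton]⟩
  · have h := (biUnion_associatedPrimes_eq_compl_nonZeroDivisors A).ge hz
    simpa only [Set.mem_iUnion, SetLike.mem_coe, exists_prop] using h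

theorem hasGoodPrimes_of_reduced [IsReduced A] (hfin : (minimalPrimes A).Finite) : HasGoodPrimes A := by
  classical
  have key : ∀ x : A, (∀ q ∈ minimalPrimes A, x ∈ q) → x = 0 := fun x hx => by
    have h : x ∈ sInf (minimalPrimes A) := Submodule.mem_sInf.2 hx
    have h' : x ∈ (⊥ : Ideal A).radical := Ideal.sInf_minimalPrimes (I := (⊥ : Ideal A)) ▸ h
    obtain ⟨n, hn⟩ := h'
    exact eq_zero_of_pow_eq_zero (Ideal.mem_bot.1 hn)
  refine ⟨minimalPrimes A, hfin, fun p hp => ⟨hp.1.1, ?_⟩, fun z hz => ?_⟩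
  · let S := hfin.toFinset.erase p
    have hS : ∀ P ∈ S, ∃ a ∈ P, a ∉ p := fun P hP => by
      obtain ⟨hne, hPm⟩ := Finset.mem_erase.1 hP
      have hPm' := hfin.mem_toFinset.1 hPm
      exact SetLike.not_le_iff_exists.1 fun hle => hne (le_antisymm hle (hp.2 hPm'.1 hle))
    choose! a haP hap using hS
    refine ⟨∏ P ∈ S, a P, fun x => ⟨fun hx => key _ fun q hq => ?_, fun hx => ?_⟩⟩
    · by_cases h : q = p
      · exact Ideal.mul_mem_right _ _ (h ▸ hx)
      · have hqS : q ∈ S := Finset.mem_erase.2 ⟨h, hfin.mem_toFinset.2 hq⟩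
        exact Ideal.mul_mem_left _ _ (Ideal.mem_of_dvd _ (Finset.dvd_prod_of_mem a hqS) (haP q hqS))
    · refine (hp.1.1.mem_or_mem (hx ▸ p.zero_mem)).resolve_right fun h => ?_
      obtain ⟨P, hP, hPm⟩ := (hp.1.1.prod_mem_iff).1 h
      exact hap P hP hPm
  · rw [mem_nonZeroDivisors_iff_right] at hz
    push Not at hz
    obtain ⟨y, hy, hy0⟩ := hz
    by_contra h
    push Not at h
    exact hy0 (key y fun q hq => (hq.1.1.mem_or_mem (hy ▸ q.zero_mem)).resolve_right (h q hq))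

variable {X : Scheme.{u}} [IsAffine X]

theorem exists_basicOpen_le (hA : HasGoodPrimes Γ(X, ⊤)) {U : X.Opens}
    (hU : CInt.IsSchematicallyDense U) :
    ∃ t : Γ(X, ⊤), t ∈ nonZeroDivisors Γ(X, ⊤) ∧ X.basicOpen t ≤ U := by
  obtain ⟨P, hPfin, hP, hcover⟩ := hA
  have hT := isAffineOpen_top X
  let T : Set (PrimeSpectrum Γ(X, ⊤)) := {q | hT.fromSpec q ∉ U}
  have hTc : IsClosed T := (U.2.preimage hT.fromSpec.continuous).isClosed_compl
  let J := PrimeSpectrum.vanishingIdeal T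
  have hJ : ∀ q : PrimeSpectrum Γ(X, ⊤), J ≤ q.asIdeal ↔ hT.fromSpec q ∉ U := fun q => by
    have h : PrimeSpectrum.zeroLocus (J : Set Γ(X, ⊤)) = T := by
      rw [PrimeSpectrum.zeroLocus_vanishingIdeal_eq_closure, hTc.closure_eq]
    exact (PrimeSpectrum.mem_zeroLocus q _).symm.trans (Set.ext_iff.1 h q)
  have hmem : ∀ (q : PrimeSpectrum Γ(X, ⊤)) (h : Γ(X, ⊤)),
      hT.fromSpec q ∈ X.basicOpen h ↔ h ∉ q.asIdeal := fun q h => by
    show q ∈ hT.fromSpec ⁻¹ᵁ X.basicOpen h ↔ _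
    rw [hT.fromSpec_preimage_basicOpen]
    exact Iff.rfl
  have hsurj : ∀ x : X, ∃ q, hT.fromSpec q = x := fun x => hT.range_fromSpec.ge (Set.mem_univ x)
  have hnot : ∀ p ∈ P, ¬ J ≤ p := by
    intro p hp hJp
    obtain ⟨hpp, a, ha⟩ := hP p hp
    have ha0 : a = 0 := by
      refine hU ⊤ ?_
      rw [map_zero]
      apply TopCat.Presheaf.section_ext X.sheaf
      intro x hx
      obtain ⟨q, rfl⟩ := hsurj x
      obtain ⟨h, hhp, hhq⟩ := SetLike.not_le_iff_exists.1 (fun hle : p ≤ q.asIdeal =>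
        (hJ ⟨p, hpp⟩).1 hJp ((((PrimeSpectrum.le_iff_specializes ⟨p, hpp⟩ q).1 hle).map
          hT.fromSpec.continuous).mem_open U.2 hx.2))
      have hu : IsUnit (X.presheaf.germ ⊤ (hT.fromSpec q) trivial h) :=
        (X.mem_basicOpen h (hT.fromSpec q) trivial).1 ((hmem q h).2 hhq)
      have h0 : X.presheaf.germ ⊤ (hT.fromSpec q) trivial a = 0 :=
        hu.mul_right_eq_zero.1 (by rw [← map_mul, (ha h).1 hhp, map_zero])
      refine Eq.trans ?_ (map_zero (X.presheaf.germ _ _ hx).hom).symm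
      exact (TopCat.Presheaf.germ_res_apply X.presheaf _ _ hx a).trans h0
    exact hpp.ne_top ((Ideal.eq_top_iff_one _).2 ((ha 1).2 (by rw [ha0, mul_zero])))
  have hsub : ¬ ((J : Set Γ(X, ⊤)) ⊆ ⋃ p ∈ (hPfin.toFinset : Set (Ideal Γ(X, ⊤))), p) := by
    intro h
    obtain ⟨p, hp, hle⟩ := (Ideal.subset_union_prime (f := id) ⊥ ⊥
      fun p hp _ _ => (hP p (hPfin.mem_toFinset.1 hp)).1).1 h
    exact hnot p (hPfin.mem_toFinset.1 hp) hle
  obtain ⟨t, htJ, ht⟩ := Set.not_subset.1 hsub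
  refine ⟨t, ?_, fun x hx => ?_⟩
  · by_contra hn
    obtain ⟨p, hp, htp⟩ := hcover t hn
    exact ht (Set.mem_biUnion (hPfin.mem_toFinset.2 hp) htp)
  · obtain ⟨q, rfl⟩ := hsurj x
    by_contra hxU
    exact (hmem q t).1 hx ((hJ q).2 hxU htJ)

theorem minimalPrimes_finite (hfin : (irreducibleComponents X).Finite) :
    (minimalPrimes Γ(X, ⊤)).Finite := by
  let f : PrimeSpectrum Γ(X, ⊤) → X := (isAffineOpen_top X).fromSpec
  have hf : IsOpenEmbedding f := (isAffineOpen_top X).fromSpec.isOpenEmbedding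
  have h : irreducibleComponents (PrimeSpectrum Γ(X, ⊤)) ⊆
      (fun Z => f ⁻¹' Z) '' irreducibleComponents X := fun Z hZ => by
    have hs : Function.Surjective f := fun x => (isAffineOpen_top X).range_fromSpec.ge (Set.mem_univ x)
    refine ⟨f '' Z, ?_, hf.injective.preimage_image Z⟩
    let e := hf.toHomeomorphOfSurjective hs
    have := preimage_mem_irreducibleComponents hZ e.symm.isOpenEmbedding
      (by rw [e.symm.surjective.range_eq, Set.inter_univ]; exact hZ.1.nonempty)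
    rwa [← e.image_eq_preimage_symm] at this
  rw [← PrimeSpectrum.vanishingIdeal_irreducibleComponents]
  exact ((hfin.image _).subset h).image _

theorem mono {Y : Scheme.{u}} {U V : Y.Opens} (h : U ≤ V) (hU : CInt.IsSchematicallyDense U) :
    CInt.IsSchematicallyDense V := by
  intro W a b hab
  refine hU W ?_
  have := congrArg (Y.presheaf.map (homOfLE (inf_le_inf_left W h)).op) hab
  simpa only [← ConcreteCategory.comp_apply, ← Functor.map_comp, ← op_comp, homOfLE_comp] using this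

theorem germ_mem_nonZeroDivisors {t : Γ(X, ⊤)} (ht : t ∈ nonZeroDivisors Γ(X, ⊤)) (x : X) :
    X.presheaf.germ ⊤ x trivial t ∈ nonZeroDivisors (X.presheaf.stalk x) := by
  letI := TopCat.Presheaf.algebra_section_stalk X.presheaf (⟨x, trivial⟩ : (⊤ : X.Opens))
  haveI := (isAffineOpen_top X).isLocalization_stalk ⟨x, trivial⟩
  exact IsLocalization.map_nonZeroDivisors_le
    ((isAffineOpen_top X).primeIdealOf ⟨x, trivial⟩).asIdeal.primeCompl (X.presheaf.stalk x) ⟨t, ht, rfl⟩

end Groth.Agent.SchDense
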